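import Cfsg.Agent.Lib.Helper8.KS.A0

set_option autoImplicit false

namespace Cfsg.Agent.Lib.Helper8.KS

open Subgroup Cfsg.Agent.Lib.Helper33.KS
open Cfsg.Agent.Lib.Helper22 (conjS mem_conjS conjS_mem conjS_mul conjS_one conjS_eq_of_mem_normalizer)
open Cfsg.Agent.Lib.Helper48 (ZN MS)

universe u

variable {G : Type u} [Group G] [Finite G] {M T K L : Subgroup G}

omit [Finite G] in
theorem sq_of_mem_Z0 {y : G} (hy : y ∈ Z0 T) : y * y = 1 := by
  have h1 := (Cfsg.Agent.Lib.Helper10.isEA_iff.1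
    (Cfsg.Agent.Lib.Helper48.isEA_omegaCenterOf (JT T))).2 y hy
  rwa [pow_two] at h1

omit [Finite G] in
theorem sup_le_centralizer_of_mem_YY {y : G} (hy : y ∈ YY T K) :
    K ⊔ JT T ≤ centralizer ({y} : Set G) := by
  obtain ⟨hy0, hyK⟩ := Subgroup.mem_inf.1 hy
  have hyJ := (Subgroup.mem_inf.1 (Cfsg.Agent.Lib.Helper48.omegaCenterOf_le (JT T) hy0)).2
  apply sup_le
  · intro k hk
    rw [mem_centralizer_singleton_iff]
    exact mem_centralizer_iff.1 hyK k hk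
  · intro j hj
    rw [mem_centralizer_singleton_iff]
    exact mem_centralizer_iff.1 hyJ j hj

theorem cent_le (h : KD M T K L) {y : G} (hy : y ∈ YY T K) (hy1 : y ≠ 1) :
    centralizer ({y} : Set G) ≤ L := by
  have hy2 : y * y = 1 := sq_of_mem_Z0 (Subgroup.mem_inf.1 hy).1
  obtain ⟨L', hL', hle⟩ := Cfsg.Agent.Lib.Helper48.exists_maximalTwoLocal_ge
    (isTwoLocal_centralizer hy1 hy2)
  have := h.uniq L' hL' ((sup_le_centralizer_of_mem_YY hy).trans hle)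
  rwa [this] at hle

theorem not_mem_L (h : KD M T K L) (S : Sylow 2 G) (hTS : T ≤ S) {s : G} (hsS : s ∈ S)
    (hsT : s ∉ T) : s ∉ L := by
  intro hsL
  have h1 := (Cfsg.Agent.Lib.Helper48.isSylowIn_of_two h.hTL).eq_of_le
    (Q := (S : Subgroup G) ⊓ L) (S.2.to_le inf_le_left) (le_inf hTS h.hTL.1) inf_le_right
  apply hsT
  rw [← h1]
  exact Subgroup.mem_inf.2 ⟨hsS, hsL⟩

theorem core_bot {M₁ M₂ K₁ K₂ L₁ L₂ : Subgroup G} (h₁ : KD M₁ T K₁ L₁) (h₂ : KD M₂ T K₂ L₂)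
    (hne : L₁ ≠ L₂) (N : Subgroup G) (hN2 : IsPGroup 2 N) (h1 : K₁ ⊔ T ≤ normalizer (N : Set G))
    (h2 : K₂ ⊔ T ≤ normalizer (N : Set G)) : N = ⊥ := by
  by_contra hN
  obtain ⟨L', hL', hle⟩ := Cfsg.Agent.Lib.Helper48.exists_maximalTwoLocal_ge
    (N := normalizer (N : Set G)) ⟨N, hN2, hN, rfl⟩
  have hJT : JT T ≤ T := Cfsg.Agent.Lib.Helper48.thompsonSubgroupOf_le' 2 T
  have e1 := h₁.uniq L' hL' ((sup_le_sup_left hJT K₁).trans (h1.trans hle))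
  have e2 := h₂.uniq L' hL' ((sup_le_sup_left hJT K₂).trans (h2.trans hle))
  exact hne (e1.symm.trans e2)

end Cfsg.Agent.Lib.Helper8.KS
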