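import Cfsg.Agent.Lib.Helper33.KS.KDefs
import Cfsg.Agent.S2943
import Cfsg.Agent.S2946
import Cfsg.Agent.S2947
import Cfsg.Agent.S2949
import Cfsg.Agent.S2950
import Cfsg.Agent.S1225

set_option autoImplicit false

namespace Cfsg.Agent.Lib.Helper8.KS

open Subgroup Cfsg.Agent.Lib.Helper33.KS
open Cfsg.Agent.Lib.Helper22 (conjS mem_conjS conjS_mem conjS_mul conjS_one conjS_eq_of_mem_normalizer)
open Cfsg.Agent.Lib.Helper48 (ZN MS)

universe u

variable {G : Type u} [Group G] [Finite G] {M T K L : Subgroup G}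

omit [Finite G] in
theorem normalizer_maxTwoLocal (hL : Cfsg.IsMaximalTwoLocal L) : normalizer (L : Set G) ≤ L := by
  obtain ⟨⟨U, hU2, hU1, hLU⟩, hmax⟩ := hL
  have hUL : U ≤ L := by rw [hLU]; exact le_normalizer
  have hUc : U ≤ Cfsg.pCoreOf 2 L := Cfsg.Agent.Lib.Helper49.le_pCoreOf hUL (by rw [← hLU]) hU2
  have hne : Cfsg.pCoreOf 2 L ≠ ⊥ := by
    intro h
    rw [h, le_bot_iff] at hUc
    exact hU1 hUc
  have h1 : normalizer (Cfsg.pCoreOf 2 L : Set G) = L :=
    hmax _ ⟨_, Cfsg.Agent.Lib.Helper49.pCoreOf_isPGroup 2 L, hne, rfl⟩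
      (Cfsg.Agent.Lib.Helper49.le_normalizer_pCoreOf 2 L)
  calc normalizer (L : Set G) ≤ normalizer (Cfsg.pCoreOf 2 L : Set G) :=
        Cfsg.Agent.Lib.Helper49.normalizer_le_normalizer_pCoreOf 2 L
    _ = L := h1

omit [Finite G] in
theorem conjS_normalizer (g : G) (U : Subgroup G) :
    conjS g (normalizer (U : Set G)) = normalizer ((conjS g U : Subgroup G) : Set G) := by
  apply le_antisymm
  · exact Cfsg.Agent.Lib.Helper48.le_normalizer_conjS g le_rfl
  · have h1 := Cfsg.Agent.Lib.Helper48.le_normalizer_conjS (A := normalizer ((conjS g U : Subgroup G) : Set G))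
      (X := conjS g U) g⁻¹ le_rfl
    rw [Cfsg.Agent.Lib.Helper48.conjS_inv_conjS] at h1
    have h2 := Cfsg.Agent.Lib.Helper48.conjS_mono g h1
    rwa [Cfsg.Agent.Lib.Helper48.conjS_conjS_inv] at h2

omit [Finite G] in
theorem isTwoLocal_conjS {N : Subgroup G} (hN : Cfsg.IsTwoLocal N) (g : G) :
    Cfsg.IsTwoLocal (conjS g N) := by
  obtain ⟨U, hU2, hU1, rfl⟩ := hN
  refine ⟨conjS g U, hU2.map _, ?_, conjS_normalizer g U⟩
  intro h
  apply hU1
  exact (Subgroup.map_eq_bot_iff_of_injective U (MulAut.conj g).injective).1 h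

omit [Finite G] in
theorem isMaximalTwoLocal_conjS (hL : Cfsg.IsMaximalTwoLocal L) (g : G) :
    Cfsg.IsMaximalTwoLocal (conjS g L) := by
  refine ⟨isTwoLocal_conjS hL.1 g, ?_⟩
  intro N hN hLN
  have h1 : L ≤ conjS g⁻¹ N := by
    have := Cfsg.Agent.Lib.Helper48.conjS_mono g⁻¹ hLN
    rwa [Cfsg.Agent.Lib.Helper48.conjS_inv_conjS] at this
  have h2 := hL.2 _ (isTwoLocal_conjS hN g⁻¹) h1
  rw [← h2, Cfsg.Agent.Lib.Helper48.conjS_conjS_inv]

omit [Finite G] in
theorem isTwoLocal_centralizer {y : G} (hy : y ≠ 1) (hy2 : y * y = 1) :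
    Cfsg.IsTwoLocal (centralizer ({y} : Set G)) := by
  have hmem : ∀ x ∈ zpowers y, x = 1 ∨ x = y := by
    intro x hx
    obtain ⟨n, rfl⟩ := mem_zpowers_iff.1 hx
    have hy2' : y ^ (2 : ℤ) = 1 := by
      rw [show (2 : ℤ) = ((2 : ℕ) : ℤ) from rfl, zpow_natCast, pow_two, hy2]
    rcases Int.even_or_odd' n with ⟨k, hk | hk⟩
    · left
      rw [hk, zpow_mul, hy2', one_zpow]
    · right
      rw [hk, zpow_add, zpow_mul, hy2', one_zpow, one_mul, zpow_one]
  refine ⟨zpowers y, ?_, ?_, ?_⟩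
  · rintro ⟨x, hx⟩
    refine ⟨1, Subtype.ext ?_⟩
    rcases hmem x hx with rfl | rfl
    · simp
    · simpa [pow_two] using hy2
  · intro h
    exact hy (zpowers_eq_bot.1 h)
  · apply le_antisymm
    · intro g hg
      have hc : g * y = y * g := (mem_centralizer_singleton_iff.1 hg)
      rw [mem_normalizer_iff]
      intro x
      have hcx : ∀ x ∈ zpowers y, g * x * g⁻¹ = x := by
        intro x hx
        rcases hmem x hx with rfl | rfl
        · simp
        · rw [hc, mul_inv_cancel_right]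
      constructor
      · intro hx
        rw [hcx x hx]; exact hx
      · intro hx
        have h1 := hcx _ hx
        have h2 : g * x * g⁻¹ = x := by
          have : g * (g * x * g⁻¹) * g⁻¹ = g * x * g⁻¹ := h1
          have h3 : g * (g * x * g⁻¹) = g * x := by
            simpa using congrArg (· * g) this
          exact mul_left_cancel h3
        rw [← h2]; exact hx
    · intro g hg
      rw [mem_centralizer_singleton_iff]
      have h1 : g * y * g⁻¹ ∈ zpowers y := (mem_normalizer_iff.1 hg y).1 (mem_zpowers y)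
      rcases hmem _ h1 with h | h
      · exfalso
        apply hy
        have : g * y = g := by simpa using congrArg (· * g) h
        simpa using this
      · simpa using congrArg (· * g) h

omit [Finite G] in
theorem comp_not_le_normalizer_J (hT2 : IsPGroup 2 T) (hK : Cfsg.IsJComponent T K) :
    ¬ K ≤ normalizer (JT T : Set G) := by
  intro h
  apply Cfsg.Agent.Lib.Helper48.not_isPGroup_of_isJComponent hK
  have h1 : K ≤ JT T := by
    conv_lhs => rw [← hK.2.1]
    rw [Subgroup.commutator_le]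
    intro k hk j hj
    rw [commutatorElement_def]
    exact (JT T).mul_mem ((mem_normalizer_iff.1 (h hk) j).1 hj) ((JT T).inv_mem hj)
  exact hT2.to_le (h1.trans (Cfsg.Agent.Lib.Helper48.thompsonSubgroupOf_le' 2 T))

end Cfsg.Agent.Lib.Helper8.KS
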