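import Cfsg.Agent.Lib.Helper8.KS.A4

set_option autoImplicit false

namespace Cfsg.Agent.Lib.Helper8.KS

open Subgroup Cfsg.Agent.Lib.Helper33.KS
open Cfsg.Agent.Lib.Helper22 (conjS mem_conjS conjS_mem conjS_mul conjS_one conjS_eq_of_mem_normalizer)
open Cfsg.Agent.Lib.Helper48 (ZN MS)

universe u

variable {G : Type u} [Group G] [Finite G] {M T K L : Subgroup G}

theorem mem_of_conj_mem (h : KD M T K L) {g y : G} (hg : g ∈ normalizer (JT T : Set G))
    (hy : y ∈ YY T K) (hy1 : y ≠ 1) (hgy : g * y * g⁻¹ ∈ YY T K) : g ∈ L := by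
  have hgM : g ∈ M := h.ms.hNJ hg
  have hK' : Cfsg.IsJComponent T (conjS g K) := Cfsg.Agent.Lib.Helper48.MS.isJComponent_conj h.hK hg
  have hK'M : ¬ conjS g K ≤ M := by
    intro hle
    apply h.hKM
    have h1 := Cfsg.Agent.Lib.Helper48.conjS_mono g⁻¹ hle
    rwa [Cfsg.Agent.Lib.Helper48.conjS_inv_conjS,
      conjS_eq_of_mem_normalizer (le_normalizer (M.inv_mem hgM))] at h1
  have hy'1 : g * y * g⁻¹ ≠ 1 := by
    intro h0
    apply hy1
    have : g * y = g := by simpa using congrArg (· * g) h0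
    simpa using this
  have hC := cent_le h hgy hy'1
  have hJ : conjS g (JT T) = JT T := conjS_eq_of_mem_normalizer hg
  have hle1 : conjS g K ⊔ JT T ≤ L := by
    refine le_trans ?_ hC
    apply sup_le
    · rintro _ ⟨k, hk, rfl⟩
      rw [mem_centralizer_singleton_iff]
      have hc : k * y = y * k := mem_centralizer_iff.1 (Subgroup.mem_inf.1 hy).2 k hk
      simp only [MulEquiv.coe_toMonoidHom, MulAut.conj_apply]
      calc g * k * g⁻¹ * (g * y * g⁻¹) = g * (k * y) * g⁻¹ := by group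
        _ = g * (y * k) * g⁻¹ := by rw [hc]
        _ = g * y * g⁻¹ * (g * k * g⁻¹) := by group
    · exact le_sup_right.trans (sup_le_centralizer_of_mem_YY hgy)
  have hle2 : conjS g K ⊔ JT T ≤ conjS g L := by
    have := Cfsg.Agent.Lib.Helper48.conjS_mono g h.hKL
    rwa [Cfsg.Agent.Lib.Helper48.conjS_sup, hJ] at this
  obtain ⟨L₀, hL₀, hNL₀⟩ := Cfsg.Agent.Lib.Helper48.exists_maximalTwoLocal_ge
    (N := normalizer (Cfsg.wOf (conjS g K) : Set G))
    ⟨_, Cfsg.Agent.Lib.Helper48.isPGroup_wOf hK', Cfsg.Agent.Lib.Helper48.wOf_ne_bot hK', rfl⟩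
  have e1 := h.ms.unique hK' hK'M hL₀ hNL₀ h.hL hle1
  have e2 := h.ms.unique hK' hK'M hL₀ hNL₀ (isMaximalTwoLocal_conjS h.hL g) hle2
  apply normalizer_maxTwoLocal h.hL
  rw [mem_normalizer_iff_map_conj_eq]
  exact e2.trans e1.symm

end Cfsg.Agent.Lib.Helper8.KS
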